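import Groth.Agent.Lib.GExistH7.Sys
import Groth.Agent.Lib.FormalExtH7.Sheaf
import Groth.Agent.Lib.ARSys.AdicCat
import Groth.Agent.Lib.ModM1.FibreProd
import Groth.Prelude.Def_Formal2
import Mathlib.RingTheory.Polynomial.Basic
import Mathlib.CategoryTheory.Linear.Basic
import Mathlib.CategoryTheory.Subobject.NoetherianObject
import Mathlib.CategoryTheory.Adjunction.Limits
import Mathlib.CategoryTheory.Preadditive.Biproducts

/-!
# Kernels of coherent formal modules

Coherent modules on a Noetherian scheme form an abelian category with Noetherian objects, linear over a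
finitely generated `ℤ`-algebra detecting the powers of the ideal, and coherent formal modules are its adic systems.
-/

set_option autoImplicit false
set_option linter.style.haveILetI false
set_option linter.unusedSectionVars false
set_option backward.isDefEq.respectTransparency false

universe u

open CategoryTheory CategoryTheory.Limits AlgebraicGeometry TopologicalSpace Opposite

noncomputable section

namespace Groth.Agent.CohFormalKer27

variable (X : Scheme.{u}) [IsLocallyNoetherian X]

/-- Coherence as an object property. -/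
def isCoh : ObjectProperty X.Modules := fun M => Coh.IsCoh M

/-- The category of coherent modules. -/
abbrev CohC : Type (u + 1) := (isCoh X).FullSubcategory

omit [IsLocallyNoetherian X] in
theorem isCoh_of_iso {M N : X.Modules} (e : M ≅ N) (h : Coh.IsCoh M) : Coh.IsCoh N :=
  ⟨M1.isQCoh_of_isIso e h.1, M1.isFT_of_isIso e h.2⟩

instance : (isCoh X).IsClosedUnderIsomorphisms := ⟨fun e h => isCoh_of_iso X e h⟩

instance : (isCoh X).ContainsZero :=
  ⟨⟨_, isZero_kernel_of_mono (𝟙 (Coh.structureModule X)),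
    M1.isCoh_kernel (M1.isCoh_structureModule X) (M1.isQCoh_structureModule X) _⟩⟩

instance : (isCoh X).IsClosedUnderKernels where
  kernels_le := by
    rintro _ ⟨f, k, hk, hf⟩
    exact isCoh_of_iso X (IsLimit.conePointUniqueUpToIso (kernelIsKernel f) hk) (M1.isCoh_kernel hf.1 hf.2.1 f)

instance : (isCoh X).IsClosedUnderCokernels where
  cokernels_le := by
    rintro _ ⟨f, k, hk, hf⟩
    exact isCoh_of_iso X (IsColimit.coconePointUniqueUpToIso (cokernelIsCokernel f) hk)
      (M1.isCoh_cokernel hf.1.1 hf.2 f)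

instance : (isCoh X).IsClosedUnderFiniteProducts := by
  haveI : (isCoh X).IsClosedUnderBinaryProducts :=
    ⟨by
      rintro A ⟨p⟩
      let e : p.diag.obj ⟨WalkingPair.left⟩ ⊞ p.diag.obj ⟨WalkingPair.right⟩ ≅ A :=
        IsLimit.conePointUniqueUpToIso (BinaryBiproduct.isLimit _ _)
          ((IsLimit.postcomposeHomEquiv (diagramIsoPair p.diag) _).symm p.isLimit)
      exact isCoh_of_iso X e (M1.isCoh_biprod (p.prop_diag_obj _) (p.prop_diag_obj _))⟩
  exact ObjectProperty.IsClosedUnderFiniteProducts.mk'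

instance abelianCohC : Abelian (CohC X) := inferInstance

instance : PreservesFiniteLimits (isCoh X).ι :=
  haveI : ∀ {A B : CohC X} (f : A ⟶ B), PreservesLimit (parallelPair f 0) (isCoh X).ι :=
    fun f => (isCoh X).preservesKernels_ι f
  (isCoh X).ι.preservesFiniteLimits_of_preservesKernels

variable {X}

/-- A map out of a quasi-coherent module vanishing on the sections over an affine open kills its stalks there. -/
theorem germ_eq_zero {M N : X.Modules} (hM : Coh.IsQCoh M) (φ : M ⟶ N) {U : X.Opens} (hU : IsAffineOpen U)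
    (h : ∀ s : Γ(M, U), φ.app U s = 0) {V : X.Opens} (s : Γ(M, V)) (x : X) (hxV : x ∈ V) (hxU : x ∈ U) :
    N.presheaf.germ V x hxV (φ.app V s) = 0 := by
  haveI := hM
  obtain ⟨r, m, hr, hrs⟩ := M1.exists_germ_smul_eq M hU hxU (M.presheaf.germ V x hxV s)
  let a := M1.ores (inf_le_right : V ⊓ U ≤ U) r • M1.mres M (inf_le_left : V ⊓ U ≤ V) s
  have hxW : x ∈ V ⊓ U := ⟨hxV, hxU⟩
  have e1 : M.presheaf.germ (V ⊓ U) x hxW a = M.presheaf.germ U x hxU m := by
    rw [M1.germ_smul, M1.germ_mres, TopCat.Presheaf.germ_res_apply]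
    exact hrs
  have e2 := congrArg ((TopCat.Presheaf.stalkFunctor Ab x).map φ.mapPresheaf) e1
  have nat : ∀ {V' : X.Opens} (hx' : x ∈ V') (t : Γ(M, V')),
      (TopCat.Presheaf.stalkFunctor Ab x).map φ.mapPresheaf (M.presheaf.germ V' x hx' t) =
        N.presheaf.germ V' x hx' (φ.app V' t) := fun hx' t =>
    TopCat.Presheaf.stalkFunctor_map_germ_apply _ x hx' φ.mapPresheaf t
  rw [nat, nat, h, map_zero, Scheme.Modules.Hom.app_smul, M1.germ_smul, M1.app_mres, M1.germ_mres,
    TopCat.Presheaf.germ_res_apply] at e2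
  exact hr.smul_eq_zero.1 e2

section Noeth

theorem isNoetherianObject [IsNoetherian X] (M : CohC X) : IsNoetherianObject M := by
  obtain ⟨S, hS, hcov⟩ := M1.exists_finite_affine_iSup (X := X) (U := ⊤) (by simpa using isCompact_univ)
  haveI := hS.fintype
  rw [isNoetherianObject_iff_monotone_chain_condition]
  intro f
  let rng : ∀ U : S, ℕ →o Submodule Γ(X, (U.1 : X.Opens)) Γ(M.obj, (U.1 : X.Opens)) := fun U =>
    { toFun := fun k =>
        { carrier := Set.range ((f k).arrow.hom.app (U.1 : X.Opens))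
          zero_mem' := ⟨0, map_zero _⟩
          add_mem' := by
            rintro _ _ ⟨a, rfl⟩ ⟨b, rfl⟩
            exact ⟨a + b, map_add _ a b⟩
          smul_mem' := by
            rintro c _ ⟨a, rfl⟩
            exact ⟨c • a, Scheme.Modules.Hom.app_smul _ c a⟩ }
      monotone' := by
        rintro a b hab _ ⟨x, rfl⟩
        refine ⟨(Subobject.ofLE _ _ (f.monotone hab)).hom.app _ x, ?_⟩
        exact congrArg (fun t => t.app (U.1 : X.Opens) x)
          (congrArg InducedCategory.Hom.hom (Subobject.ofLE_arrow (f.monotone hab))) }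
  have hst : ∀ U : S, ∃ n, ∀ m, n ≤ m → rng U n = rng U m := fun U => by
    haveI : IsNoetherianRing Γ(X, (U.1 : X.Opens)) := IsLocallyNoetherian.component_noetherian U.1
    haveI := M1.finite_sections M.property.1 M.property.2 U.1.2
    exact monotone_stabilizes_iff_noetherian.2 inferInstance (rng U)
  choose N hN using hst
  refine ⟨Finset.univ.sup N, fun m hm => le_antisymm (f.monotone hm) ?_⟩
  set n := Finset.univ.sup N with hn
  haveI : Mono (f n).arrow.hom := inferInstanceAs (Mono ((isCoh X).ι.map (f n).arrow))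
  have hz : (f m).arrow.hom ≫ cokernel.π (f n).arrow.hom = 0 := by
    refine Scheme.Modules.hom_ext _ _ fun V => ?_
    ext s
    refine M1.section_ext _ _ fun x hxV => ?_
    obtain ⟨⟨U, hUS⟩, hxU⟩ := Opens.mem_iSup.1 (hcov.le (show x ∈ (⊤ : X.Opens) from trivial))
    change (cokernel (f n).arrow.hom).presheaf.germ V x hxV _ = (cokernel (f n).arrow.hom).presheaf.germ V x hxV 0
    rw [map_zero]
    refine germ_eq_zero (f m : CohC X).property.1 _ U.2 (fun t => ?_) s x hxV hxU
    have e1 : rng ⟨U, hUS⟩ m = rng ⟨U, hUS⟩ n := by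
      rw [← hN ⟨U, hUS⟩ m ((Finset.le_sup (Finset.mem_univ _)).trans hm),
        ← hN ⟨U, hUS⟩ n (Finset.le_sup (Finset.mem_univ _))]
    obtain ⟨t', ht'⟩ := e1.le (⟨t, rfl⟩ : (f m).arrow.hom.app (U : X.Opens) t ∈ rng ⟨U, hUS⟩ m)
    change (cokernel.π (f n).arrow.hom).app (U : X.Opens) ((f m).arrow.hom.app (U : X.Opens) t) = 0
    rw [← ht']
    exact congrArg (fun φ => φ.app (U : X.Opens) t') (cokernel.condition (f n).arrow.hom)
  exact Subobject.le_of_comm (ObjectProperty.homMk (Abelian.monoLift (f n).arrow.hom _ hz))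
    (InducedCategory.hom_ext (Abelian.monoLift_comp _ _ hz))

end Noeth

section Linear

variable {A : Type u} [CommRing A] [X.Over (Spec (CommRingCat.of A))]
variable {r : ℕ} (u : Fin r → A)

/-- The coefficient ring. -/
abbrev Base (r : ℕ) : Type := MvPolynomial (Fin r) ℤ

/-- Its map to the base ring. -/
def ev : Base r →+* A := MvPolynomial.eval₂Hom (Int.castRingHom A) u

/-- The linear structure through the base ring. -/
@[implicit_reducible]
def linearC : Linear (Base r) (CohC X) where
  homModule M N :=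
    { smul := fun b f => ObjectProperty.homMk (Formal.smulMod A M.obj (ev u b) ≫ f.hom)
      one_smul := fun f => InducedCategory.hom_ext (by
        change Formal.smulMod A M.obj (ev u 1) ≫ f.hom = f.hom
        rw [map_one, GExistH7.smulMod_one, Category.id_comp])
      mul_smul := fun a b f => InducedCategory.hom_ext (by
        change Formal.smulMod A M.obj (ev u (a * b)) ≫ f.hom =
          Formal.smulMod A M.obj (ev u a) ≫ Formal.smulMod A M.obj (ev u b) ≫ f.hom
        rw [map_mul, GExistH7.smulMod_mul', Category.assoc])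
      smul_zero := fun a => InducedCategory.hom_ext comp_zero
      smul_add := fun a f g => InducedCategory.hom_ext (Preadditive.comp_add _ _ _ _ _ _)
      add_smul := fun a b f => InducedCategory.hom_ext (by
        change Formal.smulMod A M.obj (ev u (a + b)) ≫ f.hom =
          Formal.smulMod A M.obj (ev u a) ≫ f.hom + Formal.smulMod A M.obj (ev u b) ≫ f.hom
        rw [map_add, GExistH7.smulMod_add, Preadditive.add_comp])
      zero_smul := fun f => InducedCategory.hom_ext (by
        change Formal.smulMod A M.obj (ev u 0) ≫ f.hom = 0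
        rw [map_zero, GExistH7.smulMod_zero, zero_comp]) }
  smul_comp _ _ _ b f g := InducedCategory.hom_ext (Category.assoc _ _ _)
  comp_smul M _ _ f b g := InducedCategory.hom_ext (by
    change f.hom ≫ Formal.smulMod A _ (ev u b) ≫ g.hom = Formal.smulMod A M.obj (ev u b) ≫ f.hom ≫ g.hom
    rw [FormalH7.smulMod_naturality_assoc])

/-- The ideal of the variables. -/
def J (r : ℕ) : Ideal (Base r) := Ideal.span (Set.range MvPolynomial.X)

theorem map_J_pow (n : ℕ) : (J r ^ n).map (ev u) = Ideal.span (Set.range u) ^ n := by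
  rw [Ideal.map_pow, J, Ideal.map_span, ← Set.range_comp]
  congr 3
  exact funext fun i => MvPolynomial.eval₂_X _ _ i

variable {I : Ideal A}

/-- The family detects annihilation by `I`. -/
def Detects (I : Ideal A) (u : Fin r → A) : Prop :=
  (∀ i, u i ∈ I) ∧ ∀ {M T : X.Modules} (φ : M ⟶ T),
      (∀ i, Formal.smulMod A M (u i) ≫ φ = 0) → ∀ a ∈ I, Formal.smulMod A M a ≫ φ = 0

variable {u}

theorem smul_pow_eq_zero (hu : Detects (X := X) I u) (n : ℕ) :
    ∀ {M T : X.Modules} (φ : M ⟶ T), (∀ a ∈ Ideal.span (Set.range u) ^ n, Formal.smulMod A M a ≫ φ = 0) →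
      ∀ a ∈ I ^ n, Formal.smulMod A M a ≫ φ = 0 := by
  induction n with
  | zero => intro M T φ h a _; exact h a (by simp)
  | succ n ih =>
    intro M T φ h a ha
    rw [pow_succ] at ha
    refine Submodule.mul_induction_on ha (fun c hc b hb => ?_) fun c d hc hd => ?_
    · rw [GExistH7.smulMod_mul', Category.assoc]
      refine ih _ (fun e he => ?_) c hc
      rw [← Category.assoc, ← GExistH7.smulMod_mul', GExistH7.smulMod_mul, Category.assoc]
      refine hu.2 _ (fun i => ?_) b hb
      rw [← Category.assoc, ← GExistH7.smulMod_mul]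
      exact h _ (by rw [pow_succ]; exact Ideal.mul_mem_mul he (Ideal.subset_span ⟨i, rfl⟩))
    · rw [GExistH7.smulMod_add, Preadditive.add_comp, hc, hd, add_zero]

theorem ev_mem (hu : Detects (X := X) I u) {n : ℕ} {b : Base r} (hb : b ∈ J r ^ n) : ev u b ∈ I ^ n :=
  Ideal.pow_right_mono (Ideal.span_le.2 (Set.range_subset_iff.2 hu.1)) n
    ((map_J_pow u n).le (Ideal.mem_map_of_mem _ hb))

theorem smul_of_J (hu : Detects (X := X) I u) {n : ℕ} {M T : X.Modules} (φ : M ⟶ T)
    (h : ∀ b ∈ J r ^ n, Formal.smulMod A M (ev u b) ≫ φ = 0) : ∀ a ∈ I ^ n, Formal.smulMod A M a ≫ φ = 0 :=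
  smul_pow_eq_zero hu n φ fun a ha => by
    rw [← map_J_pow u n] at ha
    exact GExistH7.smul_span_comp_eq_zero φ (by rintro _ ⟨b, hb, rfl⟩; exact h b hb) a ha

variable [IsNoetherian X] (u)

/-- The systems as systems of coherent modules. -/
def liftSys (G : ℕᵒᵖ ⥤ X.Modules) (h : Formal.IsCohFormal I G) : ARSys.PS (CohC X) :=
  (isCoh X).lift G fun n => h.1 n.unop

theorem isAdicNoeth_lift (hu : Detects (X := X) I u) (G : ℕᵒᵖ ⥤ X.Modules) (h : Formal.IsCohFormal I G) :
    letI := linearC (X := X) u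
    ARSys.IsAdicNoeth (J r) (liftSys G h) := by
  letI := linearC (X := X) u
  refine ⟨⟨fun n b hb => InducedCategory.hom_ext ?_, fun n m hnm => ⟨fun b hb => InducedCategory.hom_ext ?_,
    fun Y φ hφ => ?_⟩⟩, fun n => isNoetherianObject _⟩
  · change Formal.smulMod A (G.obj (op n)) (ev u b) ≫ 𝟙 _ = 0
    rw [Category.comp_id, h.2.1 n _ (ev_mem hu hb)]
  · change Formal.smulMod A (G.obj (op n)) (ev u b) ≫ 𝟙 _ = 0
    rw [Category.comp_id, h.2.1 n _ (ev_mem hu hb)]
  · have hq := (GExistH7.isSys_of_isCohFormal h).quot_gm hnm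
    obtain ⟨ψ, hψ⟩ := hq.desc φ.hom (smul_of_J hu φ.hom fun b hb => congrArg InducedCategory.Hom.hom (hφ b hb))
    refine ⟨ObjectProperty.homMk ψ, InducedCategory.hom_ext hψ, fun ψ' hψ' => InducedCategory.hom_ext ?_⟩
    exact hq.hom_ext ((congrArg InducedCategory.Hom.hom hψ').trans hψ.symm)

theorem isCohFormal_of_isAdic (hu : Detects (X := X) I u) (Y : ARSys.PS (CohC X))
    (h : letI := linearC (X := X) u
      ARSys.IsAdic (J r) Y) :
    Formal.IsCohFormal I (Y ⋙ (isCoh X).ι) := by
  letI := linearC (X := X) u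
  have hk : ∀ n, Formal.KilledBy (I ^ (n + 1)) ((Y ⋙ (isCoh X).ι).obj (op n)) := fun n a ha => by
    have e := smul_of_J hu (𝟙 ((Y ⋙ (isCoh X).ι).obj (op n)))
      (fun b hb => (congrArg InducedCategory.Hom.hom (h.1 n b hb) :)) a ha
    rwa [Category.comp_id] at e
  refine ⟨fun n => (Y.obj (op n)).property, hk, fun n => ?_⟩
  let M := Y.obj (op (n + 1))
  let p : M ⟶ Y.obj (op n) := ARSys.tr Y (Nat.le_succ n)
  let q : M ⟶ (⟨GExistH7.modI (I ^ (n + 1)) M.obj, FormalExtH7.isCoh_modI M.property⟩ : CohC X) :=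
    ObjectProperty.homMk (GExistH7.modIπ (I ^ (n + 1)) M.obj)
  have hq := GExistH7.isQuot_modIπ (I ^ (n + 1)) M.obj
  obtain ⟨ψ, hψ, -⟩ := (h.2 n (n + 1) (Nat.le_succ n)).2 _ q
    (fun b hb => InducedCategory.hom_ext (hq.smul _ (ev_mem hu hb)))
  obtain ⟨θ, hθ⟩ := hq.desc_killed p.hom (hk n)
  have hψ' : p.hom ≫ ψ.hom = GExistH7.modIπ (I ^ (n + 1)) M.obj := congrArg InducedCategory.Hom.hom hψ
  have h1 : θ ≫ ψ.hom = 𝟙 _ := hq.hom_ext (by rw [← Category.assoc, hθ, hψ', Category.comp_id])
  obtain ⟨_, -, huniq⟩ := (h.2 n (n + 1) (Nat.le_succ n)).2 _ p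
    (fun b hb => InducedCategory.hom_ext (by
      change Formal.smulMod A M.obj (ev u b) ≫ p.hom = 0
      rw [FormalH7.smulMod_naturality]
      exact (congrArg (p.hom ≫ ·) (hk n _ (ev_mem hu hb))).trans comp_zero))
  have h2 : ψ ≫ ObjectProperty.homMk θ = 𝟙 _ :=
    (huniq _ (InducedCategory.hom_ext (show p.hom ≫ ψ.hom ≫ θ = p.hom by rw [← Category.assoc, hψ', hθ]))).trans
      (huniq _ (Category.comp_id p)).symm
  exact ((hq.comp_iso ⟨θ, ψ.hom, h1, congrArg InducedCategory.Hom.hom h2⟩).of_eq hθ).isIso_desc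

end Linear

theorem hasKernels_cohFormal {A : Type u} [CommRing A] (I : Ideal A) {X : Scheme.{u}}
    [X.Over (Spec (CommRingCat.of A))] [IsNoetherian X] : HasKernels (Formal2.CohFormalCat I X) := by
  obtain ⟨r, u, hI, hd⟩ := FormalExtH7.exists_family (X := X) I
  have hu : Detects (X := X) I u := ⟨hI, hd⟩
  letI := linearC (X := X) u
  let F : AR.AdicN (C := CohC X) (J r) ⥤ Formal2.CohFormalCat I X :=
    ObjectProperty.lift _ (ObjectProperty.ι _ ⋙ (Functor.whiskeringRight ℕᵒᵖ _ _).obj (isCoh X).ι)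
      fun Y => isCohFormal_of_isAdic u hu Y.obj Y.property.1
  haveI : F.Full := inferInstanceAs (ObjectProperty.lift _ _ _).Full
  haveI : F.Faithful := inferInstanceAs (ObjectProperty.lift _ _ _).Faithful
  haveI : F.EssSurj := ⟨fun G => ⟨⟨liftSys G.obj G.property, isAdicNoeth_lift u hu G.obj G.property⟩,
    ⟨ObjectProperty.isoMk _ (NatIso.ofComponents (fun _ => Iso.refl _) fun g => by simp [F, liftSys])⟩⟩⟩
  haveI : F.IsEquivalence := {}
  haveI : HasKernels (AR.AdicN (C := CohC X) (J r)) := AR.hasKernels_adicN (A := Base r) (J := J r)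
  haveI : HasEqualizers (AR.AdicN (C := CohC X) (J r)) := Preadditive.hasEqualizers_of_hasKernels
  haveI : HasEqualizers (Formal2.CohFormalCat I X) :=
    Adjunction.hasLimitsOfShape_of_equivalence F.asEquivalence.inverse
  infer_instance

end Groth.Agent.CohFormalKer27
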